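import Mathlib
import Groth.Prelude.Def_W4bk4boschfrg79

/-!
Basic facts on the adic completion `P` of a ring `M₀` along a principal ideal `(a)`:
approximation by elements of `M₀` modulo `a`, completeness, `a` in the Jacobson radical.
-/

set_option autoImplicit false
universe u v

namespace Groth.Agent.Lib.Helper6.RigPt

section General

variable {M₀ : Type v} [CommRing M₀] (a : M₀) (J : Ideal M₀) (hJ : J = Ideal.span {a})

include hJ

theorem fg_of_eq_span : J.FG := by
  rw [hJ]
  exact ⟨{a}, by simp⟩

theorem map_eq_span_of :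
    J.map (algebraMap M₀ (AdicCompletion J M₀)) = Ideal.span {AdicCompletion.of J M₀ a} := by
  have key : ∀ K : Ideal M₀, K = Ideal.span {a} →
      K.map (algebraMap M₀ (AdicCompletion J M₀)) = Ideal.span {AdicCompletion.of J M₀ a} := by
    rintro K rfl
    rw [Ideal.map_span, Set.image_singleton]
    rfl
  exact key J hJ

/-- Every element of the completion is an element of `M₀` plus a multiple of `a`. -/
theorem exists_of_add_mul (x : AdicCompletion J M₀) :
    ∃ (y : M₀) (x' : AdicCompletion J M₀),
      x = AdicCompletion.of J M₀ y + AdicCompletion.of J M₀ a * x' := by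
  obtain ⟨y, hy⟩ := Ideal.Quotient.mk_surjective (AdicCompletion.evalOneₐ J x)
  have h1 : x - AdicCompletion.of J M₀ y ∈
      RingHom.ker (AdicCompletion.evalOneₐ J).toRingHom := by
    rw [RingHom.mem_ker]
    show AdicCompletion.evalOneₐ J (x - AdicCompletion.of J M₀ y) = 0
    rw [map_sub, AdicCompletion.evalOneₐ_of, hy, sub_self]
  rw [AdicCompletion.ker_evalOneₐ_eq_map J (fg_of_eq_span a J hJ), map_eq_span_of a J hJ,
    Ideal.mem_span_singleton'] at h1
  obtain ⟨x', hx'⟩ := h1
  refine ⟨y, x', ?_⟩
  rw [mul_comm, hx']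
  ring

theorem isAdicComplete_span_of :
    IsAdicComplete (Ideal.span {AdicCompletion.of J M₀ a}) (AdicCompletion J M₀) := by
  have h := AdicCompletion.isAdicComplete_self J (fg_of_eq_span a J hJ)
  rw [map_eq_span_of a J hJ] at h
  exact h

theorem of_mem_jacobson : AdicCompletion.of J M₀ a ∈ (⊥ : Ideal (AdicCompletion J M₀)).jacobson := by
  have := isAdicComplete_span_of a J hJ
  exact IsAdicComplete.le_jacobson_bot (Ideal.span {AdicCompletion.of J M₀ a})
    (Ideal.mem_span_singleton_self _)

theorem eq_zero_of_forall_pow_dvd (x : AdicCompletion J M₀)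
    (hx : ∀ n : ℕ, ∃ y, x = AdicCompletion.of J M₀ a ^ n * y) : x = 0 := by
  have := isAdicComplete_span_of a J hJ
  have hH : IsHausdorff (Ideal.span {AdicCompletion.of J M₀ a}) (AdicCompletion J M₀) :=
    inferInstance
  refine hH.haus x (fun n => ?_)
  rw [SModEq.zero, Ideal.span_singleton_pow, smul_eq_mul, Ideal.mul_top,
    Ideal.mem_span_singleton']
  obtain ⟨y, hy⟩ := hx n
  exact ⟨y, by rw [hy, mul_comm]⟩

/-- If `ψ` is a surjective ring hom from the completion onto a nontrivial local ring, the image
of `a` lies in the maximal ideal. -/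
theorem map_of_mem_maximalIdeal {B : Type*} [CommRing B] [IsLocalRing B]
    (ψ : AdicCompletion J M₀ →+* B) (hψ : Function.Surjective ψ) :
    ψ (AdicCompletion.of J M₀ a) ∈ IsLocalRing.maximalIdeal B := by
  rw [IsLocalRing.mem_maximalIdeal, mem_nonunits_iff]
  intro hu
  obtain ⟨b, hb⟩ := hu.exists_right_inv
  obtain ⟨y, rfl⟩ := hψ b
  have h1 := (Ideal.mem_jacobson_bot.mp (of_mem_jacobson a J hJ)) (-y)
  have h2 : ψ (AdicCompletion.of J M₀ a * -y + 1) = 0 := by
    rw [map_add, map_mul, map_neg, map_one, mul_neg, hb]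
    ring
  have h3 := h1.map ψ
  rw [h2] at h3
  exact not_isUnit_zero h3

end General

section RPow

variable {R : Type u} [CommRing R] (t : R) (n : ℕ)

theorem rpow_ideal_eq : (Ideal.span {t}).map (MvPolynomial.C : R →+* MvPolynomial (Fin n) R) =
    Ideal.span {(MvPolynomial.C t : MvPolynomial (Fin n) R)} := by
  rw [Ideal.map_span, Set.image_singleton]

theorem rpow_algebraMap (r : R) :
    algebraMap R (AdicRing.RPow R (Ideal.span {t}) n) r =
      AdicCompletion.of _ (MvPolynomial (Fin n) R) (MvPolynomial.C r) := rfl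

end RPow

end Groth.Agent.Lib.Helper6.RigPt
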