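import Mathlib
import Groth.Prelude.Def_W4bk4boschfrg79
import Groth.Agent.Lib.Helper6.RigPt.RP1
import Groth.Agent.Lib.Helper2.CompleteFinite
import Groth.Agent.Lib.Helper8.ValNorm1

/-!
A local domain of Krull dimension one which is topologically of finite type over a complete
valuation ring of height one (and on which `t` is nonzero) is a finite module over the base.
-/

set_option autoImplicit false
universe u

namespace Groth.Agent.Lib.Helper6.RigPt

open IsLocalRing

section LocalDimOne

variable {B : Type u} [CommRing B] [IsDomain B] [IsLocalRing B]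

theorem eq_maximalIdeal_of_prime_ne_bot (hdim : ringKrullDim B = 1) (p : Ideal B)
    (hp : p.IsPrime) (hp0 : p ≠ ⊥) : p = maximalIdeal B := by
  have : Ring.KrullDimLE 1 B := Ring.krullDimLE_iff.mpr (by rw [hdim]; rfl)
  exact IsLocalRing.eq_maximalIdeal (hp.isMaximal_of_ne_bot hp0)

theorem maximalIdeal_le_radical_span (hdim : ringKrullDim B = 1) (x : B) (hx : x ≠ 0) :
    maximalIdeal B ≤ (Ideal.span {x}).radical := by
  rw [Ideal.radical_eq_sInf]
  refine le_sInf ?_
  rintro J ⟨hJ, hJp⟩
  have hJne : J ≠ ⊥ := by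
    rintro rfl
    exact hx (by simpa using hJ (Ideal.mem_span_singleton_self x))
  exact (eq_maximalIdeal_of_prime_ne_bot hdim J hJp hJne).ge

theorem eq_zero_of_forall_pow_dvd_local (hdim : ringKrullDim B = 1) (s : B)
    (hs : s ∈ maximalIdeal B) (x : B) (hx : ∀ n : ℕ, ∃ y, x = s ^ n * y) : x = 0 := by
  by_contra hx0
  have hs0 : s ≠ 0 := by
    rintro rfl
    obtain ⟨y', hy'⟩ := hx 1
    rw [pow_one, zero_mul] at hy'
    exact hx0 hy'
  have hsrad : s ∈ (Ideal.span {x}).radical := maximalIdeal_le_radical_span hdim x hx0 hs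
  obtain ⟨M, hM⟩ := hsrad
  rw [Ideal.mem_span_singleton'] at hM
  obtain ⟨y, hy⟩ := hM
  obtain ⟨z, hz⟩ := hx (M + 1)
  have hsM : s ^ M ≠ 0 := pow_ne_zero M hs0
  have h1 : s ^ M * 1 = s ^ M * (s * (y * z)) := by
    calc s ^ M * 1 = y * x := by rw [mul_one, hy]
      _ = y * (s ^ (M + 1) * z) := by rw [← hz]
      _ = s ^ M * (s * (y * z)) := by ring
  have h2 : 1 = s * (y * z) := mul_left_cancel₀ hsM h1
  have h3 : IsUnit s := IsUnit.of_mul_eq_one _ h2.symm
  exact (IsLocalRing.mem_maximalIdeal _).mp hs h3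

end LocalDimOne

section Main

variable (R : Type u) [CommRing R] [IsDomain R] [ValuationRing R] [Ring.KrullDimLE 1 R]
  (t : R) (ht : t ≠ 0) [IsAdicComplete (Ideal.span {t}) R]
  (B : Type u) [CommRing B] [Algebra R B] [IsDomain B] [IsLocalRing B]

omit [IsDomain B] in
include ht in
/-- If `t` maps into the maximal ideal of the local domain `B`, then `R → B` is local. -/
theorem isLocalHom_of_mem (htm : algebraMap R B t ∈ maximalIdeal B) :
    IsLocalHom (algebraMap R B) := by
  refine ⟨fun r hr => ?_⟩
  by_contra hru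
  have hrm : r ∈ maximalIdeal R := (IsLocalRing.mem_maximalIdeal r).mpr hru
  have htmR : t ∈ maximalIdeal R :=
    Groth.Agent.Helper8.ValNorm.mem_maximalIdeal_of_isAdicComplete R t
  rw [← Groth.Agent.Helper8.ValNorm.radical_span_eq R t ht htmR] at hrm
  obtain ⟨N, hN⟩ := hrm
  rw [Ideal.mem_span_singleton'] at hN
  obtain ⟨s, hs⟩ := hN
  have h1 : algebraMap R B r ^ N ∈ maximalIdeal B := by
    rw [← map_pow, ← hs, map_mul]
    exact Ideal.mul_mem_left _ _ htm
  have h2 : algebraMap R B r ∈ maximalIdeal B :=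
    (IsLocalRing.maximalIdeal.isMaximal B).isPrime.mem_of_pow_mem N h1
  exact (IsLocalRing.mem_maximalIdeal _).mp h2 hr

include ht in
theorem finite_of_local_dim_one (hdim : ringKrullDim B = 1) (htB : algebraMap R B t ≠ 0)
    (n : ℕ) (ψ : AdicRing.RPow R (Ideal.span {t}) n →ₐ[R] B) (hψ : Function.Surjective ψ) :
    Module.Finite R B := by
  -- `t` maps into the maximal ideal
  have htm : algebraMap R B t ∈ maximalIdeal B := by
    have h := map_of_mem_maximalIdeal (MvPolynomial.C t)
      ((Ideal.span {t}).map (MvPolynomial.C : R →+* MvPolynomial (Fin n) R))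
      (rpow_ideal_eq t n) (ψ : AdicRing.RPow R (Ideal.span {t}) n →+* B) hψ
    have h2 : (ψ : AdicRing.RPow R (Ideal.span {t}) n →+* B)
        (AdicCompletion.of _ (MvPolynomial (Fin n) R) (MvPolynomial.C t)) = algebraMap R B t := by
      have := ψ.commutes t
      rw [rpow_algebraMap] at this
      exact this
    rw [h2] at h
    exact h
  have hloc : IsLocalHom (algebraMap R B) := isLocalHom_of_mem R t ht B htm
  -- the polynomial approximation
  obtain ⟨θ, hθ⟩ : ∃ θ : MvPolynomial (Fin n) R →ₐ[R] B, θ = ψ.comp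
      (IsScalarTower.toAlgHom R (MvPolynomial (Fin n) R) (AdicRing.RPow R (Ideal.span {t}) n)) :=
    ⟨_, rfl⟩
  have hK : ∀ z : B, ∃ (y : MvPolynomial (Fin n) R) (w : B), z = θ y + algebraMap R B t * w := by
    intro z
    obtain ⟨x, rfl⟩ := hψ z
    obtain ⟨y, x', hx⟩ := exists_of_add_mul (MvPolynomial.C t)
      ((Ideal.span {t}).map (MvPolynomial.C : R →+* MvPolynomial (Fin n) R))
      (rpow_ideal_eq t n) x
    refine ⟨y, ψ x', ?_⟩
    have h2 : ψ (AdicCompletion.of _ (MvPolynomial (Fin n) R) (MvPolynomial.C t)) =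
        algebraMap R B t := by
      have := ψ.commutes t
      rw [rpow_algebraMap] at this
      exact this
    conv_lhs => rw [hx]
    rw [map_add, map_mul, h2, hθ]
    rfl
  -- the residue field is finite over the residue field of `R`
  have hρ : Function.Surjective ((IsScalarTower.toAlgHom R B (ResidueField B)).comp θ) := by
    intro z
    obtain ⟨b, rfl⟩ := IsLocalRing.residue_surjective z
    obtain ⟨y, w, hyw⟩ := hK b
    refine ⟨y, ?_⟩
    show residue B (θ y) = residue B b
    rw [hyw, map_add, map_mul, (IsLocalRing.residue_eq_zero_iff _).mpr htm, zero_mul, add_zero]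
  have hft : Algebra.FiniteType R (ResidueField B) := Algebra.FiniteType.of_surjective _ hρ
  have hft' : Algebra.FiniteType (ResidueField R) (ResidueField B) :=
    Algebra.FiniteType.of_restrictScalars_finiteType R (ResidueField R) (ResidueField B)
  have hfin : Module.Finite (ResidueField R) (ResidueField B) :=
    finite_of_finite_type_of_isJacobsonRing (ResidueField R) (ResidueField B)
  have hintk : Algebra.IsIntegral (ResidueField R) (ResidueField B) := inferInstance
  have hintR : Algebra.IsIntegral R (ResidueField R) :=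
    Algebra.isIntegral_of_surjective IsLocalRing.residue_surjective
  have hres : ∀ b : B, IsIntegral R (residue B b) := fun b =>
    isIntegral_trans (R := R) (A := ResidueField R) (residue B b)
      (Algebra.IsIntegral.isIntegral (residue B b))
  -- monic polynomials with value in `(t)`
  have hrad : ∀ b : B, ∃ g : Polynomial R, g.Monic ∧
      Polynomial.eval₂ (algebraMap R B) b g ∈ Ideal.span {algebraMap R B t} := by
    intro b
    obtain ⟨f, hfm, hf0⟩ := hres b
    have h1 : residue B (Polynomial.eval₂ (algebraMap R B) b f) = 0 := by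
      rw [Polynomial.hom_eval₂]
      exact hf0
    have h2 : Polynomial.eval₂ (algebraMap R B) b f ∈ maximalIdeal B :=
      (IsLocalRing.residue_eq_zero_iff _).mp h1
    obtain ⟨N, hN⟩ := maximalIdeal_le_radical_span hdim _ htB h2
    refine ⟨f ^ N, hfm.pow N, ?_⟩
    rw [Polynomial.eval₂_pow]
    exact hN
  -- `B / t B` is a finite `R`-module
  obtain ⟨χ, hχ⟩ : ∃ χ : MvPolynomial (Fin n) R →ₐ[R] B ⧸ Ideal.span {algebraMap R B t},
      χ = (Ideal.Quotient.mkₐ R (Ideal.span {algebraMap R B t})).comp θ := ⟨_, rfl⟩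
  have hχs : Function.Surjective χ := by
    intro z
    obtain ⟨b, rfl⟩ := Ideal.Quotient.mk_surjective z
    obtain ⟨y, w, hyw⟩ := hK b
    refine ⟨y, ?_⟩
    rw [hχ]
    show Ideal.Quotient.mk _ (θ y) = Ideal.Quotient.mk _ b
    rw [hyw, map_add, map_mul, Ideal.Quotient.eq_zero_iff_mem.mpr
      (Ideal.mem_span_singleton_self _), zero_mul, add_zero]
  have hint : ∀ i, IsIntegral R (χ (MvPolynomial.X i)) := by
    intro i
    obtain ⟨g, hgm, hg⟩ := hrad (θ (MvPolynomial.X i))
    refine ⟨g, hgm, ?_⟩
    have h1 : Polynomial.eval₂ (algebraMap R (B ⧸ Ideal.span {algebraMap R B t}))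
        (χ (MvPolynomial.X i)) g =
        Ideal.Quotient.mk _ (Polynomial.eval₂ (algebraMap R B) (θ (MvPolynomial.X i)) g) := by
      rw [Polynomial.hom_eval₂, hχ]
      rfl
    rw [h1]
    exact Ideal.Quotient.eq_zero_iff_mem.mpr hg
  have hadj : Algebra.adjoin R (Set.range fun i => χ (MvPolynomial.X i)) = ⊤ := by
    have hae : MvPolynomial.aeval (fun i => χ (MvPolynomial.X i)) = χ :=
      (MvPolynomial.aeval_unique χ).symm
    rw [Algebra.adjoin_range_eq_range_aeval, hae]
    exact (AlgHom.range_eq_top χ).mpr hχs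
  have hfg := fg_adjoin_of_finite (R := R) (Set.finite_range fun i => χ (MvPolynomial.X i))
    (by rintro _ ⟨i, rfl⟩; exact hint i)
  rw [hadj, Algebra.top_toSubmodule] at hfg
  have hfinq : Module.Finite R (B ⧸ Ideal.span {algebraMap R B t}) := ⟨hfg⟩
  -- separatedness of `B`
  have hHaus : IsHausdorff (Ideal.span {t}) B := by
    refine ⟨fun x hx => ?_⟩
    refine eq_zero_of_forall_pow_dvd_local hdim (algebraMap R B t) htm x (fun k => ?_)
    have h1 := hx k
    rw [SModEq.zero, Ideal.span_singleton_pow, Submodule.ideal_span_singleton_smul,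
      Submodule.mem_smul_pointwise_iff_exists] at h1
    obtain ⟨y, -, hy⟩ := h1
    refine ⟨y, ?_⟩
    rw [← hy, Algebra.smul_def, map_pow]
  -- lift generators and conclude
  obtain ⟨r, s, hs⟩ := Module.Finite.exists_fin (R := R)
    (M := B ⧸ Ideal.span {algebraMap R B t})
  choose x hx using fun i => Ideal.Quotient.mk_surjective (s i)
  have hsup : Submodule.span R (Set.range x) ⊔ (Ideal.span {t}) • (⊤ : Submodule R B) = ⊤ := by
    rw [eq_top_iff]
    intro z _
    have h1 : Ideal.Quotient.mkₐ R (Ideal.span {algebraMap R B t}) z ∈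
        Submodule.span R (Set.range s) := by rw [hs]; trivial
    obtain ⟨c, hc⟩ := (Submodule.mem_span_range_iff_exists_fun R).1 h1
    have h2 : z - ∑ i, c i • x i ∈ Ideal.span {algebraMap R B t} := by
      rw [← Ideal.Quotient.eq_zero_iff_mem]
      show Ideal.Quotient.mkₐ R (Ideal.span {algebraMap R B t}) (z - ∑ i, c i • x i) = 0
      rw [map_sub, map_sum, ← hc, sub_eq_zero]
      refine Finset.sum_congr rfl (fun i _ => ?_)
      rw [map_smul]
      congr 1
      exact (hx i).symm
    rw [Ideal.mem_span_singleton'] at h2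
    obtain ⟨w, hw⟩ := h2
    have h3 : z = ∑ i, c i • x i + t • w := by
      rw [Algebra.smul_def, mul_comm, hw]
      ring
    rw [h3]
    refine Submodule.add_mem_sup (Submodule.sum_mem _ fun i _ => ?_) ?_
    · exact Submodule.smul_mem _ _ (Submodule.subset_span ⟨i, rfl⟩)
    · exact Submodule.smul_mem_smul (Ideal.mem_span_singleton_self t) Submodule.mem_top
  have hspan := Groth.Agent.Helper2.CompleteFinite.span_eq_top_of_sup_smul_eq_top
    (Ideal.span {t}) B x hsup
  exact Module.finite_def.2 (Submodule.fg_iff_exists_fin_generating_family.2 ⟨r, x, hspan⟩)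

end Main

end Groth.Agent.Lib.Helper6.RigPt
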