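import Mathlib
import Groth.Prelude.Def_W4bk4boschfrg79
import Groth.Agent.Lib.Helper6.RigPt.RP1
import Groth.Agent.Lib.Helper2.CompleteFinite

/-!
A surjection from restricted power series onto a finite free algebra has finitely generated
kernel.
-/

set_option autoImplicit false
universe u

namespace Groth.Agent.Lib.Helper6.RigPt

open Module

/-- Nakayama for an ideal in a complete ring. -/
theorem ideal_fg_of_approx {P : Type u} [CommRing P] (τ : P) [IsAdicComplete (Ideal.span {τ}) P]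
    (𝔨 : Ideal P) {ι' : Type} [Fintype ι'] (gen : ι' → P) (hgen : ∀ l, gen l ∈ 𝔨)
    (happ : ∀ x ∈ 𝔨, ∃ (q : ι' → P) (x' : P), x' ∈ 𝔨 ∧ x = ∑ l, q l * gen l + τ * x') :
    𝔨.FG := by
  have hH : IsHausdorff (Ideal.span {τ}) ↥𝔨 := by
    refine ⟨fun z hz => ?_⟩
    apply Subtype.ext
    have hP : IsHausdorff (Ideal.span {τ}) P := inferInstance
    refine hP.haus z.1 (fun k => ?_)
    have h1 := hz k
    rw [SModEq.zero] at h1 ⊢
    have h2 : (Ideal.span {τ} ^ k • (⊤ : Submodule P ↥𝔨)).map 𝔨.subtype ≤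
        Ideal.span {τ} ^ k • (⊤ : Submodule P P) := by
      rw [Submodule.map_smul'']
      exact Submodule.smul_mono le_rfl le_top
    exact h2 (Submodule.mem_map_of_mem h1)
  obtain ⟨xs, hxs⟩ : ∃ xs : Fin (Fintype.card ι') → ↥𝔨, ∀ l', ∃ l, xs l = ⟨gen l', hgen l'⟩ :=
    ⟨fun l => ⟨gen ((Fintype.equivFin ι').symm l), hgen _⟩,
      fun l' => ⟨Fintype.equivFin ι' l', by simp⟩⟩
  have hsup : Submodule.span P (Set.range xs) ⊔
      (Ideal.span {τ}) • (⊤ : Submodule P ↥𝔨) = ⊤ := by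
    rw [eq_top_iff]
    intro z _
    obtain ⟨q, x', hx', hz⟩ := happ z.1 z.2
    have h3 : z = ∑ l, q l • (⟨gen l, hgen l⟩ : ↥𝔨) + τ • (⟨x', hx'⟩ : ↥𝔨) := by
      apply Subtype.ext
      rw [hz]
      simp only [Submodule.coe_add, Submodule.coe_sum, Submodule.coe_smul, smul_eq_mul]
    rw [h3]
    refine Submodule.add_mem_sup (Submodule.sum_mem _ fun l _ => ?_) ?_
    · obtain ⟨l0, hl0⟩ := hxs l
      exact Submodule.smul_mem _ _ (Submodule.subset_span ⟨l0, hl0⟩)
    · exact Submodule.smul_mem_smul (Ideal.mem_span_singleton_self τ) Submodule.mem_top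
  have hspan := Groth.Agent.Helper2.CompleteFinite.span_eq_top_of_sup_smul_eq_top
    (Ideal.span {τ}) ↥𝔨 xs hsup
  have hfg : (⊤ : Submodule P ↥𝔨).FG :=
    Submodule.fg_iff_exists_fin_generating_family.2 ⟨_, xs, hspan⟩
  exact (Submodule.fg_top 𝔨).mp hfg

theorem ker_fg_of_finite_free
    (R : Type u) [CommRing R] (t : R)
    (C : Type u) [CommRing C] [Algebra R C] {r : ℕ} (e : Basis (Fin r) R C)
    (n : ℕ) (ψ : AdicRing.RPow R (Ideal.span {t}) n →ₐ[R] C) (hψ : Function.Surjective ψ) :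
    (RingHom.ker ψ.toRingHom).FG := by
  classical
  choose p hp using fun k => hψ (e k)
  obtain ⟨τ, hτ⟩ : ∃ τ : AdicRing.RPow R (Ideal.span {t}) n,
      τ = AdicCompletion.of _ (MvPolynomial (Fin n) R) (MvPolynomial.C t) := ⟨_, rfl⟩
  obtain ⟨θ₀, hθ₀⟩ : ∃ θ₀ : MvPolynomial (Fin n) R →ₐ[R] AdicRing.RPow R (Ideal.span {t}) n,
      θ₀ = IsScalarTower.toAlgHom R (MvPolynomial (Fin n) R)
        (AdicRing.RPow R (Ideal.span {t}) n) := ⟨_, rfl⟩
  have hθ₀of : ∀ y, θ₀ y = AdicCompletion.of _ (MvPolynomial (Fin n) R) y := by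
    intro y; rw [hθ₀]; rfl
  have hτt : ∀ y : AdicRing.RPow R (Ideal.span {t}) n, t • y = τ * y := by
    intro y
    rw [Algebra.smul_def, rpow_algebraMap, hτ]
  -- the generators of the kernel
  obtain ⟨β₀, hβ₀⟩ : ∃ β₀ : AdicRing.RPow R (Ideal.span {t}) n,
      β₀ = 1 - ∑ k, (e.repr 1 k) • p k := ⟨_, rfl⟩
  obtain ⟨β₁, hβ₁⟩ : ∃ β₁ : Fin n × Fin r → AdicRing.RPow R (Ideal.span {t}) n,
      β₁ = fun ij => θ₀ (MvPolynomial.X ij.1) * p ij.2 -
        ∑ k, (e.repr (ψ (θ₀ (MvPolynomial.X ij.1)) * e ij.2) k) • p k := ⟨_, rfl⟩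
  obtain ⟨gen, hgen⟩ : ∃ gen : Unit ⊕ (Fin n × Fin r) →
      AdicRing.RPow R (Ideal.span {t}) n, gen = Sum.elim (fun _ => β₀) β₁ := ⟨_, rfl⟩
  have hψp : ∀ (c : Fin r → R), ψ (∑ k, c k • p k) = ∑ k, c k • e k := by
    intro c
    rw [map_sum]
    refine Finset.sum_congr rfl (fun k _ => ?_)
    rw [map_smul, hp]
  have hgenker : ∀ l, gen l ∈ RingHom.ker ψ.toRingHom := by
    intro l
    rw [RingHom.mem_ker]
    show ψ (gen l) = 0
    rw [hgen]
    rcases l with u | ij
    · show ψ β₀ = 0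
      rw [hβ₀, map_sub, map_one, hψp, e.sum_repr, sub_self]
    · show ψ (β₁ ij) = 0
      rw [hβ₁]
      show ψ (θ₀ (MvPolynomial.X ij.1) * p ij.2 -
        ∑ k, (e.repr (ψ (θ₀ (MvPolynomial.X ij.1)) * e ij.2) k) • p k) = 0
      rw [map_sub, map_mul, hp, hψp, e.sum_repr, sub_self]
  obtain ⟨N, hN⟩ : ∃ N : Submodule R (AdicRing.RPow R (Ideal.span {t}) n),
      N = Submodule.span R (Set.range p) ⊔
        (Ideal.span (Set.range gen)).restrictScalars R := ⟨_, rfl⟩
  have hpN : ∀ (c : Fin r → R), ∑ k, c k • p k ∈ N := by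
    intro c
    rw [hN]
    exact Submodule.mem_sup_left (Submodule.sum_mem _ fun k _ =>
      Submodule.smul_mem _ _ (Submodule.subset_span ⟨k, rfl⟩))
  have hgenN : ∀ l, gen l ∈ N := by
    intro l
    rw [hN]
    exact Submodule.mem_sup_right
      ((Submodule.restrictScalars_mem R _ _).mpr (Ideal.subset_span ⟨l, rfl⟩))
  have hmul1 : ∀ i, ∀ y1 ∈ Submodule.span R (Set.range p), y1 * θ₀ (MvPolynomial.X i) ∈ N := by
    intro i y1 hy1
    induction hy1 using Submodule.span_induction with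
    | mem x hx =>
      obtain ⟨j, rfl⟩ := hx
      have h1 : p j * θ₀ (MvPolynomial.X i) = gen (Sum.inr (i, j)) +
          ∑ k, (e.repr (ψ (θ₀ (MvPolynomial.X i)) * e j) k) • p k := by
        rw [hgen]
        show _ = β₁ (i, j) + _
        rw [hβ₁]
        ring
      rw [h1]
      exact add_mem (hgenN _) (hpN _)
    | zero => rw [zero_mul]; exact zero_mem _
    | add x y _ _ hx hy => rw [add_mul]; exact add_mem hx hy
    | smul c x _ hx => rw [smul_mul_assoc]; exact Submodule.smul_mem _ c hx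
  have hmulN : ∀ i, ∀ y ∈ N, y * θ₀ (MvPolynomial.X i) ∈ N := by
    intro i y hy
    rw [hN] at hy
    obtain ⟨y1, hy1, y2, hy2, rfl⟩ := Submodule.mem_sup.mp hy
    rw [add_mul]
    refine add_mem (hmul1 i y1 hy1) ?_
    rw [hN]
    refine Submodule.mem_sup_right ?_
    exact (Submodule.restrictScalars_mem R _ _).mpr
      (Ideal.mul_mem_right _ _ ((Submodule.restrictScalars_mem R _ _).mp hy2))
  have hpolyN : ∀ f : MvPolynomial (Fin n) R, θ₀ f ∈ N := by
    intro f
    induction f using MvPolynomial.induction_on with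
    | C a =>
      have h1 : (1 : AdicRing.RPow R (Ideal.span {t}) n) ∈ N := by
        have h2 : (1 : AdicRing.RPow R (Ideal.span {t}) n) = gen (Sum.inl ()) +
            ∑ k, (e.repr 1 k) • p k := by
          rw [hgen]
          show _ = β₀ + _
          rw [hβ₀]
          ring
        rw [h2]
        exact add_mem (hgenN _) (hpN _)
      have h3 : θ₀ (MvPolynomial.C a) = a • (1 : AdicRing.RPow R (Ideal.span {t}) n) :=
        calc θ₀ (MvPolynomial.C a) = algebraMap R (AdicRing.RPow R (Ideal.span {t}) n) a :=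
              θ₀.commutes a
          _ = a • (1 : AdicRing.RPow R (Ideal.span {t}) n) := Algebra.algebraMap_eq_smul_one a
      rw [h3]
      exact Submodule.smul_mem _ a h1
    | add f g hf hg => rw [map_add]; exact add_mem hf hg
    | mul_X f i hf => rw [map_mul]; exact hmulN i _ hf
  have hspanker : Ideal.span (Set.range gen) ≤ RingHom.ker ψ.toRingHom :=
    Ideal.span_le.mpr (by rintro _ ⟨l, rfl⟩; exact hgenker l)
  have happ : ∀ x ∈ RingHom.ker ψ.toRingHom,
      ∃ (q : Unit ⊕ (Fin n × Fin r) → AdicRing.RPow R (Ideal.span {t}) n)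
        (x' : AdicRing.RPow R (Ideal.span {t}) n),
        x' ∈ RingHom.ker ψ.toRingHom ∧ x = ∑ l, q l * gen l + τ * x' := by
    intro x hx
    obtain ⟨f, x₁, hx₁⟩ := exists_of_add_mul (MvPolynomial.C t)
      ((Ideal.span {t}).map (MvPolynomial.C : R →+* MvPolynomial (Fin n) R))
      (rpow_ideal_eq t n) x
    rw [← hθ₀of, ← hτ, ← hτt] at hx₁
    have hfN := hpolyN f
    rw [hN] at hfN
    obtain ⟨y1, hy1, b, hb, hfy⟩ := Submodule.mem_sup.mp hfN
    obtain ⟨rr, hrr⟩ := (Submodule.mem_span_range_iff_exists_fun R).mp hy1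
    have hbI : b ∈ Ideal.span (Set.range gen) := (Submodule.restrictScalars_mem R _ _).mp hb
    obtain ⟨q, hq⟩ := Ideal.mem_span_range_iff_exists_fun.mp hbI
    have hψb : ψ b = 0 := hspanker hbI
    have hψx : ψ x = 0 := hx
    obtain ⟨s, hs⟩ : ∃ s : Fin r → R, s = fun k => e.repr (ψ x₁) k :=
      ⟨_, rfl⟩
    have hsx : ∑ k, s k • e k = ψ x₁ := by rw [hs]; exact e.sum_repr (ψ x₁)
    have h2 : ψ x = ∑ k, rr k • e k + 0 + t • ψ x₁ := by
      rw [hx₁, map_add, map_smul, ← hfy, map_add, ← hrr, hψp, hψb]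
    have h1 : ∑ k, (rr k + t * s k) • e k = 0 := by
      have h1' : ∑ k, (rr k + t * s k) • e k = ∑ k, rr k • e k + t • ∑ k, s k • e k := by
        rw [Finset.smul_sum, ← Finset.sum_add_distrib]
        refine Finset.sum_congr rfl (fun k _ => ?_)
        rw [add_smul, mul_smul]
      rw [h1', hsx]
      rw [hψx, add_zero] at h2
      exact h2.symm
    have h3 : ∀ k, rr k + t * s k = 0 := by
      intro k
      have h5 := e.repr_sum_self (fun k => rr k + t * s k)
      rw [h1, map_zero] at h5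
      simpa using (congrFun h5 k).symm
    refine ⟨q, x₁ - ∑ k, s k • p k, ?_, ?_⟩
    · rw [RingHom.mem_ker]
      show ψ (x₁ - ∑ k, s k • p k) = 0
      rw [map_sub, hψp, hsx, sub_self]
    · have h6 : ∑ k, rr k • p k = -(t • ∑ k, s k • p k) := by
        rw [Finset.smul_sum, ← Finset.sum_neg_distrib]
        refine Finset.sum_congr rfl (fun k _ => ?_)
        rw [← mul_smul, ← neg_smul]
        congr 1
        exact eq_neg_of_add_eq_zero_left (h3 k)
      rw [hq, hx₁, ← hfy, ← hrr, h6, ← hτt, smul_sub]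
      abel
  have := isAdicComplete_span_of (MvPolynomial.C t)
    ((Ideal.span {t}).map (MvPolynomial.C : R →+* MvPolynomial (Fin n) R)) (rpow_ideal_eq t n)
  rw [← hτ] at this
  exact ideal_fg_of_approx τ (RingHom.ker ψ.toRingHom) gen hgenker happ

end Groth.Agent.Lib.Helper6.RigPt
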