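import Mathlib
import Groth.Prelude.Def_W4bk4boschfrg79
import Groth.Agent.Lib.Helper6.RigPt.RP2
import Groth.Agent.Lib.Helper6.RigPt.RP3
import Groth.Agent.Lib.Helper6.AdmExt
import Groth.Agent.Lib.Helper4.DimFT1

/-!
Images of topologically finite type algebras in an admissible local domain of dimension one.
-/

set_option autoImplicit false
set_option linter.unusedSectionVars false
universe u

namespace Groth.Agent.Lib.Helper6.RigPt

open IsLocalRing

section

variable (R : Type u) [CommRing R] [IsDomain R] [ValuationRing R] [Ring.KrullDimLE 1 R]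
  (t : R) (ht : t ≠ 0) [IsAdicComplete (Ideal.span {t}) R]

include ht in
theorem admissible_torsionFree (B' : Type u) [CommRing B'] [Algebra R B']
    (hB' : AdicRing.Admissible R (Ideal.span {t}) B') :
    ∀ r : R, r ≠ 0 → ∀ x : B', r • x = 0 → x = 0 :=
  fun r hr x hx => Groth.Agent.Lib.Helper6.AdmExt.eq_zero_of_smul_eq_zero t hB'.2 r hr x hx

include ht in
theorem admissible_algebraMap_ne_zero (B' : Type u) [CommRing B'] [Algebra R B'] [Nontrivial B']
    (hB' : AdicRing.Admissible R (Ideal.span {t}) B') : algebraMap R B' t ≠ 0 := by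
  intro h
  have := admissible_torsionFree R t ht B' hB' t ht 1 (by rw [Algebra.smul_def, mul_one]; exact h)
  exact one_ne_zero this

include ht in
/-- An admissible local domain of dimension one is a finite module over the base. -/
theorem admissible_finite (B' : Type u) [CommRing B'] [Algebra R B'] [IsDomain B'] [IsLocalRing B']
    (hB' : AdicRing.Admissible R (Ideal.span {t}) B') (hdim : ringKrullDim B' = 1) :
    Module.Finite R B' := by
  obtain ⟨n', ψ', hψ', -⟩ := hB'.1
  exact finite_of_local_dim_one R t ht B' hdim (admissible_algebraMap_ne_zero R t ht B' hB')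
    n' ψ' hψ'

include ht in
theorem range_props
    (A : Type u) [CommRing A] [Algebra R A] (hA : AdicRing.TopFiniteType R (Ideal.span {t}) A)
    (B' : Type u) [CommRing B'] [Algebra R B'] [IsDomain B'] [IsLocalRing B']
    (hB' : AdicRing.Admissible R (Ideal.span {t}) B') (hdim : ringKrullDim B' = 1)
    (g : A →ₐ[R] B') :
    AdicRing.Admissible R (Ideal.span {t}) g.range ∧ IsLocalRing g.range ∧
      ringKrullDim g.range = 1 ∧ Module.Finite R g.range := by
  have htf := admissible_torsionFree R t ht B' hB'
  have htB' := admissible_algebraMap_ne_zero R t ht B' hB'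
  have hfinB' : Module.Finite R B' := admissible_finite R t ht B' hB' hdim
  have hintRB : Algebra.IsIntegral R B' := inferInstance
  have hintCB : Algebra.IsIntegral ↥g.range B' := Algebra.IsIntegral.tower_top R
  have hinjC : Function.Injective (algebraMap ↥g.range B') := Subtype.val_injective
  have hlocHom : IsLocalHom (algebraMap ↥g.range B') :=
    RingHom.IsIntegral.isLocalHom (algebraMap_isIntegral_iff.mpr hintCB) hinjC
  have hlocC : IsLocalRing ↥g.range := RingHom.domain_isLocalRing (algebraMap ↥g.range B')
  have hdimC : ringKrullDim ↥g.range = 1 := by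
    rw [← hdim]
    exact (Groth.Agent.Lib.Helper4.DimFT1.ringKrullDim_eq_of_isIntegral_of_injective
      ↥g.range B' hinjC).symm
  obtain ⟨n, ψA, hψA⟩ := hA
  obtain ⟨ψC, hψC⟩ : ∃ ψC : AdicRing.RPow R (Ideal.span {t}) n →ₐ[R] ↥g.range,
      ψC = g.rangeRestrict.comp ψA := ⟨_, rfl⟩
  have hψCs : Function.Surjective ψC := by
    rw [hψC]
    exact (g.rangeRestrict_surjective).comp hψA
  have htC : algebraMap R ↥g.range t ≠ 0 := by
    intro h
    apply htB'
    exact congrArg Subtype.val h
  have hfinC : Module.Finite R ↥g.range :=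
    finite_of_local_dim_one R t ht ↥g.range hdimC htC n ψC hψCs
  have hflat : Module.Flat R ↥g.range := by
    rw [Module.Flat.flat_iff_torsion_eq_bot_of_isBezout, Submodule.eq_bot_iff]
    intro x hx
    rw [Submodule.mem_torsion_iff] at hx
    obtain ⟨⟨r, hr⟩, hrx⟩ := hx
    have hr0 : r ≠ 0 := nonZeroDivisors.ne_zero hr
    apply Subtype.ext
    exact htf r hr0 x.1 (congrArg Subtype.val hrx)
  have hfree : Module.Free R ↥g.range := Module.free_of_flat_of_isLocalRing
  have hker := ker_fg_of_finite_free R t ↥g.range (Module.finBasis R ↥g.range) n ψC hψCs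
  refine ⟨⟨⟨n, ψC, hψCs, hker⟩, ?_⟩, hlocC, hdimC, hfinC⟩
  intro x k hx
  apply Subtype.ext
  exact hB'.2 x.1 k (fun a ha => congrArg Subtype.val (hx a ha))

end

end Groth.Agent.Lib.Helper6.RigPt
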