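import Mathlib
import Groth.Agent.Lib.Helper8.ValNorm1

/-!
Over a complete valuation ring `R` of height one, for every element `x` of an algebraic field
extension of `Frac R`, `x` or `x⁻¹` is integral over `R`.  Consequently the integral closure of an
integral `R`-domain `B` in its fraction field is a valuation ring.
-/

set_option autoImplicit false
set_option linter.unusedSectionVars false
set_option linter.style.haveILetI false
universe u

namespace Groth.Agent.Lib.Helper6.RigPt

open Polynomial

theorem minpoly_inv_coeff_zero {K L : Type*} [Field K] [Field L] [Algebra K L] (x : L)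
    (hx : x ≠ 0) (hxa : IsIntegral K x) :
    (minpoly K x⁻¹).coeff 0 = ((minpoly K x).coeff 0)⁻¹ := by
  have hya : IsIntegral K x⁻¹ := by
    rw [← isAlgebraic_iff_isIntegral] at hxa ⊢
    exact hxa.inv
  have hf0 : (minpoly K x).coeff 0 ≠ 0 := minpoly.coeff_zero_ne_zero hxa hx
  have h1 : aeval x⁻¹ (minpoly K x).reverse = 0 := by
    letI : Invertible x := invertibleOfNonzero hx
    rw [aeval_def, ← invOf_eq_inv x, eval₂_reverse_eq_zero_iff, ← aeval_def, minpoly.aeval]
  have h2 : aeval x (minpoly K x⁻¹).reverse = 0 := by
    letI : Invertible x⁻¹ := invertibleOfNonzero (inv_ne_zero hx)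
    have h3 : ⅟(x⁻¹) = x := by rw [invOf_eq_inv, inv_inv]
    have h4 := (eval₂_reverse_eq_zero_iff (algebraMap K L) x⁻¹ (minpoly K x⁻¹)).mpr
      (by rw [← aeval_def, minpoly.aeval])
    rw [h3] at h4
    rw [aeval_def]
    exact h4
  have hgf : minpoly K x⁻¹ ∣ (minpoly K x).reverse := minpoly.dvd K x⁻¹ h1
  have hfg : minpoly K x ∣ (minpoly K x⁻¹).reverse := minpoly.dvd K x h2
  have hd1 : (minpoly K x).natDegree ≤ (minpoly K x⁻¹).natDegree :=
    (natDegree_le_of_dvd hfg (by rw [Ne, reverse_eq_zero]; exact minpoly.ne_zero hya)).trans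
      (reverse_natDegree_le _)
  have hd2 : (minpoly K x).reverse.natDegree ≤ (minpoly K x⁻¹).natDegree :=
    (reverse_natDegree_le _).trans hd1
  have h4 := eq_leadingCoeff_mul_of_monic_of_dvd_of_natDegree_le (minpoly.monic hya) hgf hd2
  rw [reverse_leadingCoeff, trailingCoeff_eq_coeff_zero hf0] at h4
  have h5 := congrArg (fun q => coeff q 0) h4
  simp only [coeff_zero_reverse, coeff_C_mul] at h5
  rw [(minpoly.monic hxa).leadingCoeff] at h5
  exact eq_inv_of_mul_eq_one_right h5.symm

section VR

variable (R : Type u) [CommRing R] [IsDomain R] [ValuationRing R] [Ring.KrullDimLE 1 R]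
  (t : R) (ht : t ≠ 0) [IsAdicComplete (Ideal.span {t}) R]

include ht in
theorem isIntegral_of_coeff_zero_mem (L : Type u) [Field L] [Algebra R L]
    [Algebra (FractionRing R) L] [IsScalarTower R (FractionRing R) L] (α : L)
    (hαK : IsIntegral (FractionRing R) α)
    (h0 : (minpoly (FractionRing R) α).coeff 0 ∈ (algebraMap R (FractionRing R)).range) :
    IsIntegral R α := by
  haveI : HenselianLocalRing R := Groth.Agent.Helper8.ValNorm.henselianLocalRing R t ht
  have hall := Groth.Agent.Helper8.ValNorm.coeff_mem_range_of_irreducible (R := R)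
    (minpoly (FractionRing R) α) (minpoly.monic hαK) (minpoly.irreducible hαK) h0
  have hl : minpoly (FractionRing R) α ∈ lifts (algebraMap R (FractionRing R)) :=
    (lifts_iff_coeff_lifts _).mpr hall
  obtain ⟨q, hq, -, hqm⟩ := lifts_and_natDegree_eq_and_monic hl (minpoly.monic hαK)
  refine ⟨q, hqm, ?_⟩
  rw [← aeval_def, ← aeval_map_algebraMap (FractionRing R), hq, minpoly.aeval]

include ht in
theorem isIntegral_or_isIntegral_inv (L : Type u) [Field L] [Algebra R L]
    [Algebra (FractionRing R) L] [IsScalarTower R (FractionRing R) L]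
    [Algebra.IsAlgebraic (FractionRing R) L] (x : L) :
    IsIntegral R x ∨ IsIntegral R x⁻¹ := by
  by_cases hx : x = 0
  · left
    rw [hx]
    exact isIntegral_zero
  have hxa : IsIntegral (FractionRing R) x := (Algebra.IsAlgebraic.isAlgebraic x).isIntegral
  have hya : IsIntegral (FractionRing R) x⁻¹ := (Algebra.IsAlgebraic.isAlgebraic x⁻¹).isIntegral
  rcases ValuationRing.isInteger_or_isInteger R ((minpoly (FractionRing R) x).coeff 0) with h | h
  · left
    exact isIntegral_of_coeff_zero_mem R t ht L x hxa h
  · right
    refine isIntegral_of_coeff_zero_mem R t ht L x⁻¹ hya ?_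
    rw [minpoly_inv_coeff_zero x hx hxa]
    exact h

include ht in
theorem valuationRing_integralClosure (B : Type u) [CommRing B] [IsDomain B] [Algebra R B]
    [Algebra.IsIntegral R B] (hinj : Function.Injective (algebraMap R B)) :
    ValuationRing (integralClosure B (FractionRing B)) := by
  haveI : FaithfulSMul R (FractionRing B) := by
    rw [faithfulSMul_iff_algebraMap_injective, IsScalarTower.algebraMap_eq R B (FractionRing B)]
    exact (IsFractionRing.injective B (FractionRing B)).comp hinj
  letI : Algebra (FractionRing R) (FractionRing B) := FractionRing.liftAlgebra R (FractionRing B)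
  haveI : IsScalarTower R (FractionRing R) (FractionRing B) :=
    FractionRing.isScalarTower_liftAlgebra R (FractionRing B)
  haveI : Algebra.IsAlgebraic (FractionRing R) (FractionRing B) :=
    isAlgebraic_of_isFractionRing R B (FractionRing R) (FractionRing B)
  haveI : IsFractionRing (integralClosure B (FractionRing B)) (FractionRing B) :=
    integralClosure.isFractionRing_of_finite_extension (FractionRing B) (FractionRing B)
  rw [ValuationRing.iff_isInteger_or_isInteger (integralClosure B (FractionRing B))
    (FractionRing B)]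
  intro x
  rcases isIntegral_or_isIntegral_inv R t ht (FractionRing B) x with h | h
  · left
    exact ⟨⟨x, h.tower_top⟩, rfl⟩
  · right
    exact ⟨⟨x⁻¹, h.tower_top⟩, rfl⟩

end VR

end Groth.Agent.Lib.Helper6.RigPt
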