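import Mathlib
import Groth.Prelude.Def_W4bk4boschfrg79
import Groth.Agent.Lib.Helper6.RigPt.RP4
import Groth.Agent.Lib.Helper6.RigPt.RP5

/-!
Principalization of a finitely generated ideal of an admissible local domain of dimension one in
a finite local extension inside the fraction field.
-/

set_option autoImplicit false
set_option linter.unusedSectionVars false
set_option linter.style.haveILetI false
universe u

namespace Groth.Agent.Lib.Helper6.RigPt

open IsLocalRing

section

variable (R : Type u) [CommRing R] [IsDomain R] [ValuationRing R] [Ring.KrullDimLE 1 R]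
  (t : R) (ht : t ≠ 0) [IsAdicComplete (Ideal.span {t}) R]

include ht in
theorem admissible_algebraMap_injective (B : Type u) [CommRing B] [Algebra R B] [Nontrivial B]
    (hB : AdicRing.Admissible R (Ideal.span {t}) B) : Function.Injective (algebraMap R B) := by
  rw [injective_iff_map_eq_zero]
  intro r hr
  by_contra hr0
  have h1 := admissible_torsionFree R t ht B hB r hr0 1
    (by rw [Algebra.smul_def, mul_one]; exact hr)
  exact one_ne_zero h1

include ht in
theorem exists_finite_local_subalgebra
    (B : Type u) [CommRing B] [Algebra R B] [IsDomain B] [IsLocalRing B]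
    (hB : AdicRing.Admissible R (Ideal.span {t}) B) (hdim : ringKrullDim B = 1)
    (n : ℕ) (b : Fin n → B) (hb : ∃ i, b i ≠ 0) :
    ∃ B' : Subalgebra B (FractionRing B), Module.Finite B ↥B' ∧ IsLocalRing ↥B' ∧
      ringKrullDim ↥B' = 1 ∧
      ∃ i, Ideal.span (Set.range (fun j => algebraMap B ↥B' (b j))) =
        Ideal.span {algebraMap B ↥B' (b i)} := by
  classical
  have hfin := admissible_finite R t ht B hB hdim
  have hint : Algebra.IsIntegral R B := inferInstance
  have hinj : Function.Injective (algebraMap R B) := admissible_algebraMap_injective R t ht B hB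
  haveI hVR : ValuationRing (integralClosure B (FractionRing B)) :=
    valuationRing_integralClosure R t ht B hinj
  haveI hFR : IsFractionRing (integralClosure B (FractionRing B)) (FractionRing B) :=
    integralClosure.isFractionRing_of_finite_extension (FractionRing B) (FractionRing B)
  obtain ⟨i₀, -⟩ := hb
  have hn : 0 < n := i₀.pos
  obtain ⟨a, ha⟩ : ∃ a : ℕ → FractionRing B, a = fun m =>
      if h : m < n then algebraMap B (FractionRing B) (b ⟨m, h⟩) else 0 := ⟨_, rfl⟩
  obtain ⟨i, hi, hdom⟩ := Groth.Agent.Helper8.ValNorm.exists_coeff_dominant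
    (R := ↥(integralClosure B (FractionRing B))) (K := FractionRing B) a (Finset.range n)
    ⟨0, Finset.mem_range.mpr hn⟩
  rw [Finset.mem_range] at hi
  have hai : a i = algebraMap B (FractionRing B) (b ⟨i, hi⟩) := by rw [ha]; exact dif_pos hi
  have haj : ∀ j : Fin n, a j = algebraMap B (FractionRing B) (b j) := by
    intro j
    rw [ha]
    exact dif_pos j.2
  choose c hc using fun j : Fin n => hdom j (Finset.mem_range.mpr j.2)
  obtain ⟨B', hB'def⟩ : ∃ B' : Subalgebra B (FractionRing B), B' = Algebra.adjoin B
      (Set.range fun j => ((c j : integralClosure B (FractionRing B)) : FractionRing B)) :=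
    ⟨_, rfl⟩
  have hcint : ∀ j, IsIntegral B ((c j : integralClosure B (FractionRing B)) : FractionRing B) :=
    fun j => (c j).2
  have hcmem : ∀ j, ((c j : integralClosure B (FractionRing B)) : FractionRing B) ∈ B' := by
    intro j
    rw [hB'def]
    exact Algebra.subset_adjoin ⟨j, rfl⟩
  have hle : B' ≤ integralClosure B (FractionRing B) := by
    rw [hB'def]
    exact Algebra.adjoin_le (by rintro _ ⟨j, rfl⟩; exact (c j).2)
  have hfinB' : Module.Finite B ↥B' := by
    have hfg := fg_adjoin_of_finite (R := B)
      (Set.finite_range fun j => ((c j : integralClosure B (FractionRing B)) : FractionRing B))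
      (by rintro _ ⟨j, rfl⟩; exact hcint j)
    rw [← hB'def] at hfg
    exact Module.Finite.iff_fg.mpr hfg
  have hintB' : Algebra.IsIntegral B ↥B' := inferInstance
  have hinjB' : Function.Injective (algebraMap B ↥B') := fun x y h =>
    IsFractionRing.injective B (FractionRing B) (congrArg Subtype.val h)
  have hdimB' : ringKrullDim ↥B' = 1 := by
    rw [← hdim]
    exact Groth.Agent.Lib.Helper4.DimFT1.ringKrullDim_eq_of_isIntegral_of_injective B ↥B' hinjB'
  -- locality
  obtain ⟨g, hg⟩ : ∃ g : ↥B' →+* ↥(integralClosure B (FractionRing B)),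
      g = (Subalgebra.inclusion hle).toRingHom := ⟨_, rfl⟩
  have hginj : Function.Injective g := by
    rw [hg]
    exact Subalgebra.inclusion_injective hle
  have hcomp : g.comp (algebraMap B ↥B') =
      algebraMap B ↥(integralClosure B (FractionRing B)) := by
    rw [hg]
    exact RingHom.ext (fun x => Subtype.ext rfl)
  have hgint : g.IsIntegral := by
    apply RingHom.IsIntegral.tower_top (algebraMap B ↥B') g
    rw [hcomp]
    exact algebraMap_isIntegral_iff.mpr inferInstance
  haveI : IsLocalHom g := RingHom.IsIntegral.isLocalHom hgint hginj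
  have hlocB' : IsLocalRing ↥B' := RingHom.domain_isLocalRing g
  refine ⟨B', hfinB', hlocB', hdimB', ⟨i, hi⟩, le_antisymm ?_ ?_⟩
  · rw [Ideal.span_le]
    rintro _ ⟨j, rfl⟩
    rw [SetLike.mem_coe, Ideal.mem_span_singleton']
    refine ⟨⟨_, hcmem j⟩, ?_⟩
    apply Subtype.ext
    show ((c j : integralClosure B (FractionRing B)) : FractionRing B) *
      algebraMap B (FractionRing B) (b ⟨i, hi⟩) = algebraMap B (FractionRing B) (b j)
    rw [← hai, ← haj j]
    exact hc j
  · rw [Ideal.span_le]
    rintro _ h
    rw [Set.mem_singleton_iff] at h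
    rw [h]
    exact Ideal.subset_span ⟨⟨i, hi⟩, rfl⟩

end

end Groth.Agent.Lib.Helper6.RigPt
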