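import Mathlib
import Groth.Prelude.Def_W4bk4boschfrg79
import Groth.Agent.Lib.Helper6.RigPt.RP4

/-!
A surjection from a complete localization `A⟨f⁻¹⟩` onto an admissible local domain of dimension
one stays surjective when restricted to `A`.
-/

set_option autoImplicit false
set_option linter.unusedSectionVars false
set_option linter.style.haveILetI false
universe u

namespace Groth.Agent.Lib.Helper6.RigPt

open IsLocalRing

section

variable (R : Type u) [CommRing R] [IsDomain R] [ValuationRing R] [Ring.KrullDimLE 1 R]
  (t : R) (ht : t ≠ 0) [IsAdicComplete (Ideal.span {t}) R]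

theorem t_mem_maximalIdeal_of_admissible (B : Type u) [CommRing B] [Algebra R B] [IsLocalRing B]
    (hB : AdicRing.Admissible R (Ideal.span {t}) B) : algebraMap R B t ∈ maximalIdeal B := by
  obtain ⟨n', ψ', hψ', -⟩ := hB.1
  have h := map_of_mem_maximalIdeal (MvPolynomial.C t)
    ((Ideal.span {t}).map (MvPolynomial.C : R →+* MvPolynomial (Fin n') R))
    (rpow_ideal_eq t n') (ψ' : AdicRing.RPow R (Ideal.span {t}) n' →+* B) hψ'
  have h2 : (ψ' : AdicRing.RPow R (Ideal.span {t}) n' →+* B)
      (AdicCompletion.of _ (MvPolynomial (Fin n') R) (MvPolynomial.C t)) = algebraMap R B t := by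
    have := ψ'.commutes t
    rw [rpow_algebraMap] at this
    exact this
  rw [h2] at h
  exact h

theorem isHausdorff_of_local_dim_one (B : Type u) [CommRing B] [Algebra R B] [IsDomain B]
    [IsLocalRing B] (hdim : ringKrullDim B = 1) (htm : algebraMap R B t ∈ maximalIdeal B) :
    IsHausdorff (Ideal.span {t}) B := by
  refine ⟨fun x hx => ?_⟩
  refine eq_zero_of_forall_pow_dvd_local hdim (algebraMap R B t) htm x (fun k => ?_)
  have h1 := hx k
  rw [SModEq.zero, Ideal.span_singleton_pow, Submodule.ideal_span_singleton_smul,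
    Submodule.mem_smul_pointwise_iff_exists] at h1
  obtain ⟨y, -, hy⟩ := h1
  refine ⟨y, ?_⟩
  rw [← hy, Algebra.smul_def, map_pow]

include ht in
theorem cloc_comp_surjective
    (A : Type u) [CommRing A] [Algebra R A] (hA : AdicRing.TopFiniteType R (Ideal.span {t}) A)
    (f : A)
    (B : Type u) [CommRing B] [Algebra R B] [IsDomain B] [IsLocalRing B]
    (hB : AdicRing.Admissible R (Ideal.span {t}) B) (hdim : ringKrullDim B = 1)
    (u : AdicRing.CLoc (Ideal.span {t}) f →ₐ[R] B) (hu : Function.Surjective u) :
    Function.Surjective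
      (u.toRingHom.comp (algebraMap A (AdicRing.CLoc (Ideal.span {t}) f))) := by
  obtain ⟨g, hg⟩ : ∃ g : A →ₐ[R] B,
      ∀ a, g a = u (algebraMap A (AdicRing.CLoc (Ideal.span {t}) f) a) :=
    ⟨u.comp (IsScalarTower.toAlgHom R A (AdicRing.CLoc (Ideal.span {t}) f)), fun a => rfl⟩
  obtain ⟨hadm, hloc, hdimC, hfinC⟩ := range_props R t ht A hA B hB hdim g
  have hfinB : Module.Finite R B := admissible_finite R t ht B hB hdim
  have hintRB : Algebra.IsIntegral R B := inferInstance
  have hintCB : Algebra.IsIntegral ↥g.range B := Algebra.IsIntegral.tower_top R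
  have hlocHom : IsLocalHom (algebraMap ↥g.range B) :=
    RingHom.IsIntegral.isLocalHom (algebraMap_isIntegral_iff.mpr hintCB) Subtype.val_injective
  -- `f` becomes a unit of the range
  have hfu : IsUnit (g f) := by
    rw [hg]
    have h1 : IsUnit (algebraMap A (Localization.Away f) f) :=
      IsLocalization.Away.algebraMap_isUnit f
    have h2 := (h1.map (algebraMap (Localization.Away f)
      (AdicRing.CLoc (Ideal.span {t}) f))).map u
    exact h2
  have hfuC : IsUnit (⟨g f, ⟨f, rfl⟩⟩ : ↥g.range) :=
    isUnit_of_map_unit (algebraMap ↥g.range B) _ hfu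
  obtain ⟨v, hv⟩ := hfuC.exists_right_inv
  have hv' : g f * (v : B) = 1 := congrArg Subtype.val hv
  -- the image of the localization lies in the range
  have hAf : ∀ y : Localization.Away f,
      u (algebraMap (Localization.Away f) (AdicRing.CLoc (Ideal.span {t}) f) y) ∈ g.range := by
    intro y
    obtain ⟨a, ⟨_, k, rfl⟩, rfl⟩ := IsLocalization.exists_mk'_eq (Submonoid.powers f) y
    have h1 : u (algebraMap (Localization.Away f) (AdicRing.CLoc (Ideal.span {t}) f)
        (IsLocalization.mk' (Localization.Away f) a
          (⟨f ^ k, ⟨k, rfl⟩⟩ : Submonoid.powers f))) * (g f) ^ k = g a := by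
      rw [hg f, hg a, ← map_pow, ← map_mul]
      congr 1
      show algebraMap (Localization.Away f) (AdicRing.CLoc (Ideal.span {t}) f) _ *
        (algebraMap (Localization.Away f) (AdicRing.CLoc (Ideal.span {t}) f)
          (algebraMap A (Localization.Away f) f)) ^ k =
        algebraMap (Localization.Away f) (AdicRing.CLoc (Ideal.span {t}) f)
          (algebraMap A (Localization.Away f) a)
      rw [← map_pow, ← map_mul, ← map_pow]
      congr 1
      exact IsLocalization.mk'_spec (Localization.Away f) a
        (⟨f ^ k, ⟨k, rfl⟩⟩ : Submonoid.powers f)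
    have h2 : u (algebraMap (Localization.Away f) (AdicRing.CLoc (Ideal.span {t}) f)
        (IsLocalization.mk' (Localization.Away f) a
          (⟨f ^ k, ⟨k, rfl⟩⟩ : Submonoid.powers f))) = g a * (v : B) ^ k := by
      rw [← h1, mul_assoc, ← mul_pow, hv', one_pow, mul_one]
    rw [h2]
    exact mul_mem ⟨a, rfl⟩ (pow_mem v.2 k)
  -- generators of the range
  obtain ⟨r, s, hs⟩ := Module.Finite.exists_fin (R := R) (M := ↥g.range)
  haveI hH : IsHausdorff (Ideal.span {t}) B :=
    isHausdorff_of_local_dim_one R t B hdim (t_mem_maximalIdeal_of_admissible R t B hB)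
  have hJ : (Ideal.span {t}).map (algebraMap R (Localization.Away f)) =
      Ideal.span {algebraMap R (Localization.Away f) t} := by
    rw [Ideal.map_span, Set.image_singleton]
  have hsup : Submodule.span R (Set.range fun j => ((s j : ↥g.range) : B)) ⊔
      (Ideal.span {t}) • (⊤ : Submodule R B) = ⊤ := by
    rw [eq_top_iff]
    intro z _
    obtain ⟨x, rfl⟩ := hu z
    obtain ⟨y, x', hx⟩ := exists_of_add_mul (algebraMap R (Localization.Away f) t)
      ((Ideal.span {t}).map (algebraMap R (Localization.Away f))) hJ x
    have h1 : u x = u (algebraMap (Localization.Away f) (AdicRing.CLoc (Ideal.span {t}) f) y) +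
        t • u x' := by
      rw [hx, map_add, map_mul, Algebra.smul_def]
      congr 1
      congr 1
      exact u.commutes t
    rw [h1]
    refine Submodule.add_mem_sup ?_
      (Submodule.smul_mem_smul (Ideal.mem_span_singleton_self t) Submodule.mem_top)
    have h2 := hAf y
    have h3 : (⟨_, h2⟩ : ↥g.range) ∈ Submodule.span R (Set.range s) := by rw [hs]; trivial
    have h4 := Submodule.mem_map_of_mem (f := g.range.val.toLinearMap) h3
    rw [Submodule.map_span, ← Set.range_comp] at h4
    exact h4
  have hspan := Groth.Agent.Helper2.CompleteFinite.span_eq_top_of_sup_smul_eq_top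
    (Ideal.span {t}) B (fun j => ((s j : ↥g.range) : B)) hsup
  intro z
  have hz : z ∈ Submodule.span R (Set.range fun j => ((s j : ↥g.range) : B)) := by
    rw [hspan]; trivial
  have hle : Submodule.span R (Set.range fun j => ((s j : ↥g.range) : B)) ≤
      Subalgebra.toSubmodule g.range :=
    Submodule.span_le.mpr (by rintro _ ⟨j, rfl⟩; exact (s j).2)
  obtain ⟨a, ha⟩ := hle hz
  refine ⟨a, ?_⟩
  show u (algebraMap A (AdicRing.CLoc (Ideal.span {t}) f) a) = z
  rw [← hg a]
  exact ha

end

end Groth.Agent.Lib.Helper6.RigPt
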