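import Mathlib
import Groth.Prelude.Def_W4bk4boschfrg79
import Groth.Agent.Lib.Helper6.RigPt.RP1
import Groth.Agent.Lib.Helper9.IdemLift
import Groth.Agent.Lib.Helper4.DimFT1

/-!
Lifting closed points of the special fibre of the formal affine space `Spf R⟨ζ⟩` to rigid points:
for a maximal ideal `m ∋ t` of `R⟨ζ_1, …, ζ_n⟩` there is a prime `p ≤ m`, `t ∉ p`, with
`R⟨ζ⟩ ⧸ p` of dimension one.  (Ingredients for S11548.)

Strategy: `κ = R⟨ζ⟩ ⧸ m` is a finite extension of the residue field of `R` (Zariski's lemma), so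
the images of the `ζ_j` are integral over `R`; adjoin successively roots of monic lifts to obtain
a finite free `R`-algebra `B'` with a map `ψ : B' → κ`; `B'` is `t`-adically complete, so the
polynomial map `R[ζ] → B'` extends to `φ : R⟨ζ⟩ → B'` with `ψ ∘ φ` the quotient map; a minimal
prime `q ≤ ker ψ` of `B'` does not contain `t` (flatness), and `p = φ⁻¹ q` works.
-/

set_option autoImplicit false
set_option linter.unusedSectionVars false
set_option linter.style.haveILetI false
universe u

namespace Groth.Agent.Lib.Helper6.RigPt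

open IsLocalRing Polynomial

/-- Universal property of the adic completion of a ring with respect to maps to complete rings. -/
theorem exists_lift_of_complete {A B : Type u} [CommRing A] [CommRing B] (J : Ideal A)
    (α : A →+* B) [IsAdicComplete (J.map α) B] :
    ∃ φ : AdicCompletion J A →+* B, ∀ a, φ (AdicCompletion.of J A a) = α a := by
  obtain ⟨IB, hIB⟩ : ∃ IB : Ideal B, IB = J.map α := ⟨_, rfl⟩
  haveI : IsAdicComplete IB B := by rw [hIB]; infer_instance
  have hle : ∀ n, J ^ n ≤ (IB ^ n).comap α := fun n => by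
    rw [hIB, ← Ideal.map_pow]
    exact Ideal.le_comap_map
  obtain ⟨f, hf⟩ : ∃ f : (n : ℕ) → AdicCompletion J A →+* B ⧸ IB ^ n,
      ∀ n x, f n x = Ideal.quotientMap (IB ^ n) α (hle n) (AdicCompletion.evalₐ J n x) :=
    ⟨fun n => (Ideal.quotientMap (IB ^ n) α (hle n)).comp
      (AdicCompletion.evalₐ J n : AdicCompletion J A →+* A ⧸ J ^ n), fun n x => rfl⟩
  have hfc : ∀ {m n : ℕ} (hmn : m ≤ n),
      (Ideal.Quotient.factorPow IB hmn).comp (f n) = f m := by
    intro m n hmn
    ext x
    obtain ⟨a, rfl⟩ := AdicCompletion.mk_surjective J A x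
    rw [RingHom.comp_apply, hf, hf, AdicCompletion.evalₐ_mk, AdicCompletion.evalₐ_mk,
      Ideal.quotientMap_mk, Ideal.quotientMap_mk, Ideal.Quotient.factor_mk, Ideal.Quotient.eq,
      ← map_sub]
    apply hle m
    have := (a.property hmn).symm
    rw [SModEq.sub_mem] at this
    simpa using this
  refine ⟨IsAdicComplete.liftRingHom IB f hfc, fun a => ?_⟩
  rw [IsHausdorff.eq_iff_smodEq (I := IB)]
  intro n
  rw [SModEq.sub_mem]
  have h3 : Ideal.Quotient.mk (IB ^ n)
      (IsAdicComplete.liftRingHom IB f hfc (AdicCompletion.of J A a)) =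
      Ideal.Quotient.mk (IB ^ n) (α a) := by
    rw [IsAdicComplete.mk_liftRingHom, hf, AdicCompletion.evalₐ_of, Ideal.quotientMap_mk]
  rw [Ideal.Quotient.eq] at h3
  simpa using h3

/-- A lift out of the completion along a principal ideal is determined modulo `a` by its values on
the dense subring. -/
theorem exists_lift_compatible {A B : Type u} [CommRing A] [CommRing B] (a : A) (J : Ideal A)
    (hJ : J = Ideal.span {a}) (m : Ideal (AdicCompletion J A))
    (ham : AdicCompletion.of J A a ∈ m) (α : A →+* B) [IsAdicComplete (J.map α) B]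
    (ψ : B →+* AdicCompletion J A ⧸ m)
    (hψ : ∀ x : A, ψ (α x) = Ideal.Quotient.mk m (AdicCompletion.of J A x)) :
    ∃ φ : AdicCompletion J A →+* B, (∀ x, φ (AdicCompletion.of J A x) = α x) ∧
      ∀ y, ψ (φ y) = Ideal.Quotient.mk m y := by
  obtain ⟨φ, hφ⟩ := exists_lift_of_complete J α
  refine ⟨φ, hφ, fun y => ?_⟩
  obtain ⟨y0, y', hy⟩ := exists_of_add_mul a J hJ y
  have h0 : Ideal.Quotient.mk m (AdicCompletion.of J A a) = 0 :=
    Ideal.Quotient.eq_zero_iff_mem.mpr ham
  rw [hy]
  simp only [map_add, map_mul, hφ, hψ, h0, zero_mul, add_zero]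

/-- Adjoining integral elements: a finite free algebra whose image contains given integral
elements. -/
theorem exists_finite_free_tower {R κ : Type u} [CommRing R] [CommRing κ] (f : R →+* κ)
    (s : Finset κ) (hs : ∀ z ∈ s, f.IsIntegralElem z) :
    ∃ (B : Type u) (_ : CommRing B) (_ : Algebra R B) (ψ : B →+* κ),
      Module.Finite R B ∧ Module.Free R B ∧ (∀ r, ψ (algebraMap R B r) = f r) ∧
        ∀ z ∈ s, ∃ b, ψ b = z := by
  classical
  induction s using Finset.induction_on with
  | empty =>
    exact ⟨R, inferInstance, Algebra.id R, f, Module.Finite.self R, Module.Free.self R,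
      fun r => rfl, fun z hz => absurd hz (Finset.notMem_empty z)⟩
  | insert z s hz ih =>
    obtain ⟨B, instB, algB, ψ, hfin, hfree, hcomp, hrange⟩ :=
      ih (fun w hw => hs w (Finset.mem_insert_of_mem hw))
    obtain ⟨g, hgm, hg0⟩ := hs z (Finset.mem_insert_self z s)
    have hgm' : (g.map (algebraMap R B)).Monic := hgm.map _
    have hg0' : (g.map (algebraMap R B)).eval₂ ψ z = 0 := by
      rw [Polynomial.eval₂_map]
      have : ψ.comp (algebraMap R B) = f := RingHom.ext hcomp
      rw [this]
      exact hg0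
    haveI : Module.Finite B (AdjoinRoot (g.map (algebraMap R B))) := hgm'.finite_adjoinRoot
    haveI : Module.Free B (AdjoinRoot (g.map (algebraMap R B))) := hgm'.free_adjoinRoot
    refine ⟨AdjoinRoot (g.map (algebraMap R B)), inferInstance, inferInstance,
      AdjoinRoot.lift ψ z hg0', Module.Finite.trans B _, ?_, ?_, ?_⟩
    · exact Module.Free.of_basis ((Module.Free.chooseBasis R B).smulTower
        (Module.Free.chooseBasis B (AdjoinRoot (g.map (algebraMap R B)))))
    · intro r
      have h1 : algebraMap R (AdjoinRoot (g.map (algebraMap R B))) r =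
          AdjoinRoot.of (g.map (algebraMap R B)) (algebraMap R B r) := rfl
      rw [h1, AdjoinRoot.lift_of, hcomp]
    · intro w hw
      rcases Finset.mem_insert.mp hw with rfl | hw
      · exact ⟨AdjoinRoot.root _, AdjoinRoot.lift_root hg0'⟩
      · obtain ⟨b, hb⟩ := hrange w hw
        exact ⟨AdjoinRoot.of _ b, by rw [AdjoinRoot.lift_of, hb]⟩

/-- A ring map to a field with maximal kernel which extends to a surjection from a polynomial
ring in finitely many variables is integral (Zariski's lemma). -/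
theorem isIntegral_of_ker_isMaximal {R κ : Type u} [CommRing R] [Field κ] (f : R →+* κ)
    (hker : (RingHom.ker f).IsMaximal) {n : ℕ} (G : MvPolynomial (Fin n) R →+* κ)
    (hG : Function.Surjective G) (hGC : ∀ r, G (MvPolynomial.C r) = f r) : f.IsIntegral := by
  haveI : IsJacobsonRing (R ⧸ RingHom.ker f) := by
    letI : Field (R ⧸ RingHom.ker f) := Ideal.Quotient.field (RingHom.ker f)
    infer_instance
  obtain ⟨g, hg⟩ : ∃ g : MvPolynomial (Fin n) (R ⧸ RingHom.ker f) →+* κ,
      g = MvPolynomial.eval₂Hom (RingHom.kerLift f) (fun j => G (MvPolynomial.X j)) := ⟨_, rfl⟩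
  have hgC : ∀ a, g (MvPolynomial.C a) = RingHom.kerLift f a := fun a => by
    rw [hg, MvPolynomial.coe_eval₂Hom, MvPolynomial.eval₂_C]
  have hgX : ∀ j, g (MvPolynomial.X j) = G (MvPolynomial.X j) := fun j => by
    rw [hg, MvPolynomial.coe_eval₂Hom, MvPolynomial.eval₂_X]
  have hGg : G = g.comp (MvPolynomial.map (Ideal.Quotient.mk (RingHom.ker f))) := by
    apply MvPolynomial.ringHom_ext
    · intro r
      rw [RingHom.comp_apply, MvPolynomial.map_C, hgC, RingHom.kerLift_mk, hGC]
    · intro j
      rw [RingHom.comp_apply, MvPolynomial.map_X, hgX]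
  have hgs : Function.Surjective g := by
    intro y
    obtain ⟨x, hx⟩ := hG y
    have h1 := RingHom.congr_fun hGg x
    rw [RingHom.comp_apply] at h1
    exact ⟨_, by rw [← h1, hx]⟩
  have h1 : (g.comp MvPolynomial.C).IsIntegral :=
    MvPolynomial.comp_C_integral_of_surjective_of_isJacobsonRing g hgs
  have h2 : g.comp MvPolynomial.C = RingHom.kerLift f := RingHom.ext fun a => by
    rw [RingHom.comp_apply, hgC]
  rw [h2] at h1
  have h3 : f = (RingHom.kerLift f).comp (Ideal.Quotient.mk (RingHom.ker f)) :=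
    RingHom.ext fun r => by rw [RingHom.comp_apply, RingHom.kerLift_mk]
  rw [h3]
  exact RingHom.IsIntegral.trans _ _
    (RingHom.isIntegral_of_surjective _ Ideal.Quotient.mk_surjective) h1

section Main

variable (R : Type u) [CommRing R] [IsDomain R] [ValuationRing R] [Ring.KrullDimLE 1 R]
  (t : R) (ht : t ≠ 0) [IsAdicComplete (Ideal.span {t}) R]

theorem t_mem_maximalIdeal : t ∈ maximalIdeal R := by
  have h1 : t ∈ (⊥ : Ideal R).jacobson :=
    IsAdicComplete.le_jacobson_bot (Ideal.span {t}) (Ideal.mem_span_singleton_self t)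
  rwa [IsLocalRing.jacobson_eq_maximalIdeal ⊥ bot_ne_top] at h1

include ht in
theorem ringKrullDim_eq_one : ringKrullDim R = 1 := by
  have htm := t_mem_maximalIdeal R t
  have hnf : ¬ IsField R := by
    intro hF
    obtain ⟨s, hs⟩ := hF.mul_inv_cancel ht
    exact (IsLocalRing.mem_maximalIdeal t).mp htm (IsUnit.of_mul_eq_one s hs)
  have h0 : ¬ ringKrullDim R ≤ 0 := fun h => by
    have : Ring.KrullDimLE 0 R := Ring.krullDimLE_iff.mpr h
    exact hnf Ring.KrullDimLE.isField_of_isDomain
  have h1 : Ring.KrullDimLE 1 R := inferInstance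
  rw [Ring.krullDimLE_iff] at h1
  exact le_antisymm h1 (Order.succ_le_of_lt (lt_of_not_ge h0))

include ht in
theorem dim_quotient_comap_eq_one (P : Type u) [CommRing P] [Algebra R P]
    (B : Type u) [CommRing B] [Algebra R B] [Module.Finite R B] [Module.Free R B]
    (φ : P →+* B) (hφ : ∀ r, φ (algebraMap R P r) = algebraMap R B r)
    (q : Ideal B) (hq : q ∈ minimalPrimes B) :
    algebraMap R P t ∉ q.comap φ ∧ ringKrullDim (P ⧸ q.comap φ) = 1 := by
  haveI hqp : q.IsPrime := hq.1.1
  have htB : algebraMap R B t ∈ nonZeroDivisors B := by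
    have key : ∀ x : B, algebraMap R B t * x = 0 → x = 0 := by
      intro x hx
      rw [← Algebra.smul_def] at hx
      exact (smul_eq_zero.mp hx).resolve_left ht
    rw [mem_nonZeroDivisors_iff]
    exact ⟨key, fun x hx => key x (by rw [mul_comm]; exact hx)⟩
  have htq : algebraMap R B t ∉ q := fun h =>
    Set.disjoint_left.mp (Ideal.disjoint_nonZeroDivisors_of_mem_minimalPrimes hq) h htB
  have ht_notin : algebraMap R P t ∉ q.comap φ := by
    rw [Ideal.mem_comap, hφ]
    exact htq
  refine ⟨ht_notin, ?_⟩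
  have hinj : Function.Injective (algebraMap R (P ⧸ q.comap φ)) := by
    rw [injective_iff_map_eq_zero]
    intro r hr
    by_contra hr0
    have hr' : Ideal.Quotient.mk (q.comap φ) (algebraMap R P r) = 0 := hr
    have hr1 : algebraMap R B r ∈ q := by
      rw [← hφ]
      exact Ideal.mem_comap.mp (Ideal.Quotient.eq_zero_iff_mem.mp hr')
    have hP0 : (q.comap (algebraMap R B)).IsPrime := Ideal.comap_isPrime _ q
    have hne : q.comap (algebraMap R B) ≠ ⊥ := by
      intro h
      have h2 : r ∈ q.comap (algebraMap R B) := hr1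
      rw [h, Ideal.mem_bot] at h2
      exact hr0 h2
    have hmax := hP0.isMaximal_of_ne_bot hne
    have heq := IsLocalRing.eq_maximalIdeal hmax
    have h3 : t ∈ q.comap (algebraMap R B) := by
      rw [heq]
      exact t_mem_maximalIdeal R t
    exact htq h3
  haveI hfinq : Module.Finite R (B ⧸ q) :=
    Module.Finite.of_surjective (Ideal.Quotient.mkₐ R q).toLinearMap
      (Ideal.Quotient.mkₐ_surjective R q)
  obtain ⟨emb, hemb⟩ : ∃ emb : (P ⧸ q.comap φ) →ₐ[R] (B ⧸ q),
      ∀ x, emb x = Ideal.quotientMap q φ le_rfl x := by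
    refine ⟨{ Ideal.quotientMap q φ le_rfl with commutes' := ?_ }, fun x => rfl⟩
    intro r
    show Ideal.quotientMap q φ le_rfl (algebraMap R (P ⧸ q.comap φ) r) = algebraMap R (B ⧸ q) r
    have h1 : algebraMap R (P ⧸ q.comap φ) r = Ideal.Quotient.mk _ (algebraMap R P r) := rfl
    have h2 : algebraMap R (B ⧸ q) r = Ideal.Quotient.mk _ (algebraMap R B r) := rfl
    rw [h1, h2, Ideal.quotientMap_mk, hφ]
  have hembinj : Function.Injective emb := by
    intro x y hxy
    rw [hemb, hemb] at hxy
    exact Ideal.quotientMap_injective' le_rfl hxy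
  haveI : Algebra.IsIntegral R (P ⧸ q.comap φ) := ⟨fun x =>
    (isIntegral_algHom_iff emb hembinj).mp (Algebra.IsIntegral.isIntegral (emb x))⟩
  rw [Groth.Agent.Lib.Helper4.DimFT1.ringKrullDim_eq_of_isIntegral_of_injective R
    (P ⧸ q.comap φ) hinj]
  exact ringKrullDim_eq_one R t ht

include ht in
theorem exists_prime_of_maximal (n : ℕ) (m : Ideal (AdicRing.RPow R (Ideal.span {t}) n))
    [hmax : m.IsMaximal] (hm : algebraMap R (AdicRing.RPow R (Ideal.span {t}) n) t ∈ m) :
    ∃ p : Ideal (AdicRing.RPow R (Ideal.span {t}) n), p.IsPrime ∧ p ≤ m ∧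
      algebraMap R (AdicRing.RPow R (Ideal.span {t}) n) t ∉ p ∧
      ringKrullDim (AdicRing.RPow R (Ideal.span {t}) n ⧸ p) = 1 := by
  classical
  obtain ⟨f, hf⟩ : ∃ f : R →+* (AdicRing.RPow R (Ideal.span {t}) n ⧸ m),
      ∀ r, f r = Ideal.Quotient.mk m (algebraMap R (AdicRing.RPow R (Ideal.span {t}) n) r) :=
    ⟨(Ideal.Quotient.mk m).comp (algebraMap R (AdicRing.RPow R (Ideal.span {t}) n)),
      fun r => rfl⟩
  obtain ⟨G, hG⟩ : ∃ G : MvPolynomial (Fin n) R →+* (AdicRing.RPow R (Ideal.span {t}) n ⧸ m),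
      ∀ x, G x = Ideal.Quotient.mk m (AdicCompletion.of
        ((Ideal.span {t}).map (MvPolynomial.C : R →+* MvPolynomial (Fin n) R))
        (MvPolynomial (Fin n) R) x) :=
    ⟨(Ideal.Quotient.mk m).comp
      (algebraMap (MvPolynomial (Fin n) R) (AdicRing.RPow R (Ideal.span {t}) n)), fun x => rfl⟩
  have hof_t : AdicCompletion.of
      ((Ideal.span {t}).map (MvPolynomial.C : R →+* MvPolynomial (Fin n) R))
      (MvPolynomial (Fin n) R) (MvPolynomial.C t) ∈ m := by
    have h := hm
    rw [rpow_algebraMap] at h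
    exact h
  have hGsurj : Function.Surjective G := by
    intro y
    obtain ⟨x, rfl⟩ := Ideal.Quotient.mk_surjective y
    obtain ⟨x0, x', hx⟩ := exists_of_add_mul (MvPolynomial.C t) _ (rpow_ideal_eq t n) x
    refine ⟨x0, ?_⟩
    rw [hG, hx, map_add, map_mul, Ideal.Quotient.eq_zero_iff_mem.mpr hof_t, zero_mul, add_zero]
  have hGC : ∀ r, G (MvPolynomial.C r) = f r := fun r => by
    rw [hG, hf, rpow_algebraMap]
  have hfker : (RingHom.ker f).IsMaximal := by
    have hp : (RingHom.ker f).IsPrime := RingHom.ker_isPrime f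
    refine hp.isMaximal_of_ne_bot ?_
    intro h
    have h2 : t ∈ RingHom.ker f := by
      rw [RingHom.mem_ker, hf]
      exact Ideal.Quotient.eq_zero_iff_mem.mpr hm
    rw [h, Ideal.mem_bot] at h2
    exact ht h2
  have hfint : f.IsIntegral := by
    letI : Field (AdicRing.RPow R (Ideal.span {t}) n ⧸ m) := Ideal.Quotient.field m
    exact isIntegral_of_ker_isMaximal f hfker G hGsurj hGC
  obtain ⟨B, instB, algB, ψ, hfin, hfree, hψf, hrange⟩ :=
    exists_finite_free_tower f (Finset.univ.image fun j : Fin n => G (MvPolynomial.X j))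
      (fun z _ => hfint z)
  have hb : ∀ j : Fin n, ∃ b : B, ψ b = G (MvPolynomial.X j) := fun j =>
    hrange _ (Finset.mem_image_of_mem _ (Finset.mem_univ j))
  choose b hb using hb
  have hcB : IsAdicComplete (Ideal.span {t}) B :=
    { toIsHausdorff :=
        Groth.Agent.Lib.Helper9.IdemLift.isHausdorff_of_projective (Ideal.span {t}) B
      toIsPrecomplete :=
        Groth.Agent.Lib.Helper9.IdemLift.isPrecomplete_of_projective (Ideal.span {t}) B }
  obtain ⟨α, hα⟩ : ∃ α : MvPolynomial (Fin n) R →+* B,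
      α = MvPolynomial.eval₂Hom (algebraMap R B) b := ⟨_, rfl⟩
  have hαC : ∀ r, α (MvPolynomial.C r) = algebraMap R B r := fun r => by
    rw [hα, MvPolynomial.coe_eval₂Hom, MvPolynomial.eval₂_C]
  have hαX : ∀ j, α (MvPolynomial.X j) = b j := fun j => by
    rw [hα, MvPolynomial.coe_eval₂Hom, MvPolynomial.eval₂_X]
  have hJα : ((Ideal.span {t}).map (MvPolynomial.C : R →+* MvPolynomial (Fin n) R)).map α =
      (Ideal.span {t}).map (algebraMap R B) := by
    rw [Ideal.map_map]
    congr 1
    exact RingHom.ext hαC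
  haveI : IsAdicComplete
      (((Ideal.span {t}).map (MvPolynomial.C : R →+* MvPolynomial (Fin n) R)).map α) B := by
    rw [hJα]
    exact (IsAdicComplete.map_algebraMap_iff (Ideal.span {t}) B).mpr hcB
  have hψα : ∀ x, ψ (α x) = Ideal.Quotient.mk m (AdicCompletion.of
      ((Ideal.span {t}).map (MvPolynomial.C : R →+* MvPolynomial (Fin n) R))
      (MvPolynomial (Fin n) R) x) := by
    intro x
    rw [← hG]
    have h : ψ.comp α = G := by
      apply MvPolynomial.ringHom_ext
      · intro r
        rw [RingHom.comp_apply, hαC, hψf, hGC]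
      · intro j
        rw [RingHom.comp_apply, hαX, hb]
    exact RingHom.congr_fun h x
  obtain ⟨φ, hφ1, hφ2⟩ := exists_lift_compatible (MvPolynomial.C t) _ (rpow_ideal_eq t n) m
    hof_t α ψ hψα
  haveI hkp : (RingHom.ker ψ).IsPrime := RingHom.ker_isPrime ψ
  obtain ⟨q, hq, hqle⟩ :=
    Ideal.exists_minimalPrimes_le (bot_le : (⊥ : Ideal B) ≤ RingHom.ker ψ)
  haveI hqp : q.IsPrime := hq.1.1
  have hφR : ∀ r, φ (algebraMap R (AdicRing.RPow R (Ideal.span {t}) n) r) =
      algebraMap R B r := by
    intro r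
    rw [rpow_algebraMap, hφ1, hαC]
  obtain ⟨h1, h2⟩ := dim_quotient_comap_eq_one R t ht (AdicRing.RPow R (Ideal.span {t}) n) B φ
    hφR q hq
  refine ⟨q.comap φ, Ideal.comap_isPrime φ q, ?_, h1, h2⟩
  intro x hx
  have hx1 : φ x ∈ RingHom.ker ψ := hqle (Ideal.mem_comap.mp hx)
  rw [RingHom.mem_ker, hφ2] at hx1
  exact Ideal.Quotient.eq_zero_iff_mem.mp hx1

end Main

end Groth.Agent.Lib.Helper6.RigPt
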